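import Cfsg.Agent.ODD.Sd.Def
import Cfsg.Agent.H634.SdMain

/-!
# S4787, the direction `<=`: the reduction to the rows (helper10)
-/

set_option autoImplicit false
set_option linter.unusedSectionVars false

namespace Cfsg.Agent.ODD.Sd

open Cfsg Subgroup Cfsg.Agent.ODD.Red Cfsg.Agent.Characters
open Cfsg.Agent.H643.Sd (Ctx Inv Elem)
open Cfsg.Agent.H634.Sd
open scoped ComplexConjugate Pointwise commutatorElement

universe u

/-- an irreducible character of odd degree which is not `2`-rational -/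
def Has (G : Type u) [Group G] : Prop := ∃ χ : G → ℂ, IsIrrCharacter G χ ∧ Odd (charDegree χ) ∧ ¬ Rat2 χ

variable {G : Type u} [Group G] [Finite G]

theorem quot (N : Subgroup G) [N.Normal] (h : Has (G ⧸ N)) : Has G := by
  obtain ⟨χ, hχ, hodd, hg⟩ := h
  refine ⟨fun g => χ (QuotientGroup.mk' N g), isIrr_comp' _ (QuotientGroup.mk'_surjective N) hχ, ?_,
    fun h => hg fun τ hτ g => ?_⟩
  · rwa [charDegree_congr (ψ := χ) (by simp only [map_one])]
  · obtain ⟨g, rfl⟩ := QuotientGroup.mk'_surjective N g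
    exact h τ hτ g

section Prod

open Cfsg.Agent.Lib.MinNormalNonabelian Cfsg.Agent.H793.PC Cfsg.Agent.Characters.Core

/-- **R7.** -/
theorem product (N : Subgroup G) [hN : N.Normal]
    (h : Dec N) (P : Subgroup G) (T₀ : minSet N) (θ : IrrCharacter (T₀ : Subgroup G))
    (hodd : Odd (charDegree (θ : ↥(T₀ : Subgroup G) → ℂ)))
    (hinv : ∀ g ∈ P, cj g T₀ = T₀ → ∀ s s' : (T₀ : Subgroup G),
      (s' : G) = g * s * g⁻¹ → (θ : ↥(T₀ : Subgroup G) → ℂ) s' = (θ : ↥(T₀ : Subgroup G) → ℂ) s)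
    (hnr : ¬ Rat2 (θ : ↥(T₀ : Subgroup G) → ℂ)) :
    ∃ Θ : IrrCharacter N, Odd (charDegree (Θ : N → ℂ)) ∧
      (∀ g ∈ P, ∀ n : N,
        (Θ : N → ℂ) ⟨g * n * g⁻¹, hN.conj_mem (n : G) n.2 g⟩ = (Θ : N → ℂ) n) ∧
      ¬ Rat2 (Θ : N → ℂ) := by
  classical
  have := Fintype.ofFinite (minSet N)
  have := Fintype.ofFinite N
  have hft : ∀ T : minSet N, Fintype (T : Subgroup G) := fun T => Fintype.ofFinite _
  let f : ∀ T : minSet N, ↥(T : Subgroup G) → ℂ := fun T t => F0 P T₀ (θ : ↥(T₀ : Subgroup G) → ℂ) T t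
  have hcase : ∀ T : minSet N, (∃ e : (T : Subgroup G) ≃* (T₀ : Subgroup G), f T = (θ : ↥(T₀ : Subgroup G) → ℂ) ∘ e) ∨
      f T = 1 := fun T => F0_cases hinv T
  have hirr : ∀ T : minSet N, IsIrrCharacter (T : Subgroup G) (f T) := by
    intro T
    rcases hcase T with ⟨e, he⟩ | h1
    · rw [he]
      exact isIrr_comp e.toMonoidHom e.surjective θ.2
    · rw [h1]
      exact isIrr_one
  have hdeg : ∀ T : minSet N, ∃ d : ℕ, Odd d ∧ f T 1 = d := by
    intro T
    rcases hcase T with ⟨e, he⟩ | h1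
    · refine ⟨charDegree (θ : ↥(T₀ : Subgroup G) → ℂ), hodd, ?_⟩
      rw [he, Function.comp_apply, map_one]
      exact Blocks.Basic.irr_one_eq_charDegree θ.2
    · exact ⟨1, odd_one, by rw [h1, Nat.cast_one]; rfl⟩
  choose d hd hfd using hdeg
  refine ⟨⟨h.F f, h.isIrr_F hirr⟩, ?_, ?_, ?_⟩
  · have h1 : h.F f 1 = ((∏ T, d T : ℕ) : ℂ) := by
      rw [h.F_one]
      push_cast
      exact Finset.prod_congr rfl fun T _ => hfd T
    show Odd (charDegree (h.F f))
    rw [Blocks.Basic.charDegree_of_eq h1]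
    exact Finset.prod_induction d Odd (fun a b ha hb => ha.mul hb) odd_one fun T _ => hd T
  · intro g hg n
    show h.F f _ = h.F f n
    rw [h.F_conj]
    congr 1
    funext T t
    exact F0_inv hinv hg T t
  · refine fun hR => hnr fun τ hτ s => ?_
    have h0 : τ (h.F f (h.E (Pi.mulSingle T₀ s))) = h.F f (h.E (Pi.mulSingle T₀ s)) := hR τ hτ _
    rw [h.F_E, ← Finset.mul_prod_erase _ _ (Finset.mem_univ T₀), Pi.mulSingle_eq_same] at h0
    have h1 : f T₀ s = (θ : ↥(T₀ : Subgroup G) → ℂ) s := by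
      have h2 := F0_cj hinv (one_mem P) (s : G)
      rw [cj_one] at h2
      show F0 P T₀ (θ : ↥(T₀ : Subgroup G) → ℂ) T₀ s = _
      rw [h2]
      have : (1 : G)⁻¹ * (s : G) * 1 = s := by group
      rw [this]
      unfold ext0
      rw [dif_pos s.2]
    have h2 : ∏ T ∈ Finset.univ.erase T₀, f T ((Pi.mulSingle T₀ s : ∀ T : minSet N, (T : Subgroup G)) T) =
        ((∏ T ∈ Finset.univ.erase T₀, d T : ℕ) : ℂ) := by
      push_cast
      refine Finset.prod_congr rfl fun T hT => ?_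
      rw [Pi.mulSingle_eq_of_ne (Finset.ne_of_mem_erase hT)]
      exact hfd T
    rw [h1, h2, map_mul, map_natCast] at h0
    refine mul_right_cancel₀ ?_ h0
    have h3 : Odd (∏ T ∈ Finset.univ.erase T₀, d T) :=
      Finset.prod_induction d Odd (fun a b ha hb => ha.mul hb) odd_one fun T _ => hd T
    exact_mod_cast h3.pos.ne'

end Prod

/-- **R8**. -/
theorem lift [Fact (Nat.Prime 2)] (N : Subgroup G) [hN : N.Normal] (hperf : ⁅N, N⁆ = N) (P : Sylow 2 G)
    (Θ : IrrCharacter N) (hodd : Odd (charDegree (Θ : N → ℂ)))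
    (hinv : ∀ g ∈ (P : Subgroup G), ∀ n : N,
        (Θ : N → ℂ) ⟨g * n * g⁻¹, hN.conj_mem (n : G) n.2 g⟩ = (Θ : N → ℂ) n)
    (hnr : ¬ Rat2 (Θ : N → ℂ)) : Has G := by
  classical
  let _ : Fintype G := Fintype.ofFinite G
  let _ : Fintype N := Fintype.ofFinite N
  have hperf' : commutator N = ⊤ := by
    have hmap : (commutator N).map N.subtype = ⁅N, N⁆ := by
      rw [commutator_def, Subgroup.map_commutator, ← MonoidHom.range_eq_map, Subgroup.range_subtype]
    rw [hperf] at hmap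
    apply Subgroup.map_injective N.subtype_injective
    rw [hmap, ← MonoidHom.range_eq_map, Subgroup.range_subtype]
  have hdeg : ¬ 2 ∣ charDegree (Θ : N → ℂ) := by
    rw [← even_iff_two_dvd, Nat.not_even_iff_odd]
    exact hodd
  obtain ⟨H, hle, η, hη, hidx⟩ : ∃ (H : Subgroup G) (hle : N ≤ H) (η : IrrCharacter H),
      (∀ n : N, (η : H → ℂ) (Subgroup.inclusion hle n) = (Θ : N → ℂ) n) ∧ Odd H.index := by
    obtain ⟨η, hη⟩ := H893.Sd.exists_ext N P hperf' Θ hdeg hinv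
    refine ⟨_, _, η, hη, ?_⟩
    rw [← Nat.not_even_iff_odd, even_iff_two_dvd]
    exact fun h => P.not_dvd_index (h.trans (Subgroup.index_dvd_of_le le_sup_right))
  let _ : Fintype H := Fintype.ofFinite H
  have hη1 : (η : H → ℂ) 1 = charDegree (Θ : N → ℂ) := by
    rw [← H893.Sd.charDegree_eq, ← hη, map_one]
  have hY := Brauer.isCharacter_indFun H (Core.isIrr_isCharacter η.2)
  have hYo : Odd (charDegree (indFun H (η : H → ℂ))) := by
    rw [charDegree_of (n := H.index * charDegree (Θ : N → ℂ))]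
    · exact hidx.mul hodd
    · rw [CharactersDeep.NormalInd.indFun_one, hη1, Nat.cast_mul]
  obtain ⟨⟨χ, hχ⟩⟩ := (Nat.card_pos_iff.1 (odd_card_OC hY hYo).pos).1
  have hc := Core.isIrr_isCharacter hχ.1
  have h1 : classInner (fun n : N => χ n) (Θ : N → ℂ) ≠ 0 := by
    have h2 := hχ.ne_zero
    rw [CharactersDeep.NormalInd.classInner_indFun _ _ _ (Core.isIrr_isClassFunction hχ.1),
      ← Core.classInner_conj_symm, map_ne_zero] at h2
    have h3 := Core.isCharacter_comp (Subgroup.inclusion hle)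
      (OddOrderCharacters.Clifford.isCharacter_sub_irr (Core.isCharacter_comp H.subtype hc) η.2 h2)
    obtain ⟨m, hm⟩ := Core.classInner_isNat h3 (Core.isIrr_isCharacter Θ.2)
    have h4 : (χ ∘ H.subtype - (η : H → ℂ)) ∘ Subgroup.inclusion hle = (fun n : N => χ n) - (Θ : N → ℂ) :=
      funext fun n => by rw [Function.comp_apply, Pi.sub_apply, Pi.sub_apply, hη]; rfl
    rw [h4, Core.classInner_sub_left, Core.classInner_irr_self Θ.2, sub_eq_iff_eq_add] at hm
    rw [hm]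
    exact_mod_cast Nat.succ_ne_zero m
  refine ⟨χ, hχ.1, hχ.2.1, fun hR => hnr fun τ hτ n => ?_⟩
  obtain ⟨b, hb⟩ := hτ.exists_pow (n := Nat.card N) Nat.card_pos.ne'
  obtain ⟨θ, h2, h3⟩ := exists_OC_fix (X := fun n : N => χ n) (Core.isCharacter_comp N.subtype hc)
    hχ.2.1 (σ := τ) (fun n => hR τ hτ n) (b := b)
    fun θ hθ => fix_of_roots Nat.card_pos.ne' (fun _ => pow_card_eq_one') hb (Core.isIrr_isCharacter hθ)
  obtain ⟨g, hg⟩ := Clifford.exists_conj_of_constituents N hχ.1 h2.1 Θ.2 h2.ne_zero h1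
  rw [hg]
  exact h3 _

theorem fix_of_sq (τ : ℂ ≃+* ℂ) {z : ℂˣ} (hz : z ^ 2 = 1) : τ (z : ℂ) = z := by
  have h1 : (z : ℂ) * (z : ℂ) = 1 := by rw [← Units.val_mul, ← sq, hz, Units.val_one]
  rcases mul_self_eq_one_iff.1 h1 with h2 | h2
  · rw [h2, map_one]
  · rw [h2, map_neg, map_one]

section Two

open Cfsg.Agent.H982.SdTwo Cfsg.Agent.Blocks.Basic

/-- **The Clifford step**: a character of odd degree of the stabiliser of a real linear character. -/
theorem cliffUp (N : Subgroup G) [hN : N.Normal]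
    (ν : N →* ℂˣ) (hν : ∀ n, ν n ^ 2 = 1) (T : Subgroup G)
    (hT : ∀ g : G, g ∈ T ↔ ∀ n : N, ν ⟨g * n * g⁻¹, hN.conj_mem n n.2 g⟩ = ν n)
    (hNT : N ≤ T) (hidx : Odd T.index) (ψ : IrrCharacter T)
    (hψN : ∀ n : N, (ψ : T → ℂ) ⟨n, hNT n.2⟩ = (ψ : T → ℂ) 1 * (ν n : ℂ))
    (hψ : Odd (charDegree (ψ : T → ℂ))) (hre : ¬ Rat2 (ψ : T → ℂ)) : Has G := by
  classical
  have := Fintype.ofFinite G
  have := Fintype.ofFinite T
  have := Fintype.ofFinite (N.subgroupOf T)
  have hreal : ∀ n : N, conj ((ν n : ℂˣ) : ℂ) = (ν n : ℂ) := by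
    intro n
    have h1 : ((ν n : ℂˣ) : ℂ) * ((ν n : ℂˣ) : ℂ) = 1 := by
      rw [← Units.val_mul, ← sq, hν, Units.val_one]
    rcases mul_self_eq_one_iff.1 h1 with h2 | h2
    · rw [h2, map_one]
    · rw [h2, map_neg, map_one]
  have hsq : ∀ n : N, ((ν n : ℂˣ) : ℂ) * (ν n : ℂ) = 1 := by
    intro n
    rw [← Units.val_mul, ← sq, hν, Units.val_one]
  set θ : N → ℂ := fun n => ((ν n : ℂˣ) : ℂ) with hθ
  have hθi : IsIrrCharacter N θ := by
    have := Cfsg.Agent.CharactersDeep.ExtUnique.isIrr_mul_hom (Core.isIrr_one (G := N)) ν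
    simpa [hθ] using this
  have hT' : ∀ g : G, g ∈ T ↔ ∀ n : N, θ ⟨g * n * g⁻¹, hN.conj_mem n n.2 g⟩ = θ n := by
    intro g
    rw [hT]
    exact forall_congr' fun n => ⟨fun h => congrArg Units.val h, fun h => Units.ext h⟩
  have hcl : ∀ φ : T → ℂ, IsIrrCharacter T φ → (∀ n : N, φ ⟨n, hNT n.2⟩ = φ 1 * (ν n : ℂ)) →
      classInner (indFun (N.subgroupOf T) (fun x => θ ⟨(x : T), Subgroup.mem_subgroupOf.mp x.2⟩)) φ ≠ 0 := by
    intro φ hφ hφN
    rw [Cfsg.Agent.CharactersDeep.NormalInd.classInner_indFun _ _ _ (Core.isIrr_isClassFunction hφ)]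
    unfold classInner
    have e : ∀ x : N.subgroupOf T, θ ⟨(x : T), Subgroup.mem_subgroupOf.mp x.2⟩ * conj (φ (x : T)) =
        conj (φ 1) := by
      intro x
      have h1 := hφN ⟨(x : T), Subgroup.mem_subgroupOf.mp x.2⟩
      have h2 : φ (x : T) = φ 1 * (ν ⟨(x : T), Subgroup.mem_subgroupOf.mp x.2⟩ : ℂ) := h1
      rw [h2, map_mul, hreal, hθ]
      have h3 := hsq ⟨(x : T), Subgroup.mem_subgroupOf.mp x.2⟩
      linear_combination (conj (φ 1)) * h3
    rw [Finset.sum_congr rfl fun x _ => e x, Finset.sum_const, Finset.card_univ, nsmul_eq_mul,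
      ← Nat.card_eq_fintype_card]
    have h4 : φ 1 ≠ 0 := Core.isIrr_apply_one_ne_zero hφ
    refine mul_ne_zero (inv_ne_zero (by exact_mod_cast Nat.card_pos.ne')) (mul_ne_zero
      (by exact_mod_cast Nat.card_pos.ne') ?_)
    exact (map_ne_zero _).2 h4
  refine ⟨indFun T ψ, (Cfsg.Agent.S1489.result N T θ hθi hT' hNT ψ _ ψ.2 ψ.2 (hcl _ ψ.2 hψN) (hcl _ ψ.2 hψN)).1,
    ?_, fun hR => hre fun τ hτ t => ?_⟩
  · rw [charDegree_of (n := T.index * charDegree (ψ : T → ℂ))]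
    · exact hidx.mul hψ
    · rw [Cfsg.Agent.CharactersDeep.NormalInd.indFun_one, irr_one_eq_charDegree ψ.2, Nat.cast_mul]
  · have hψc := GaloisIrr.isIrr_map τ ψ.2
    have h2 := (Cfsg.Agent.S1489.result N T θ hθi hT' hNT ψ _ ψ.2 hψc (hcl _ ψ.2 hψN) (hcl _ hψc fun n => by
      show τ ((ψ : T → ℂ) ⟨n, hNT n.2⟩) = τ ((ψ : T → ℂ) 1) * (ν n : ℂ)
      rw [hψN, map_mul, fix_of_sq τ (hν n)])).2 (funext fun g => by rw [← map_indFun, hR τ hτ g])
    exact (congrFun h2 t).symm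

/-- **R4.** The case of a normal elementary abelian `2`-subgroup. -/
theorem two_step [Fact (Nat.Prime 2)] (N : Subgroup G) [N.Normal]
    (hexp : ∀ a ∈ N, a ^ 2 = 1) (P : Sylow 2 G)
    (hNP : N ≤ (P : Subgroup G)) (f : (P : Subgroup G) →* ℂˣ) (hx : ∃ x, f x ^ 2 ≠ 1)
    (hfN : ∃ x : (P : Subgroup G), (x : G) ∈ N ∧ f x ≠ 1)
    (ih : ∀ T : Subgroup G, N ≤ T → NonElem (T ⧸ N.subgroupOf T) → Has (T ⧸ N.subgroupOf T)) :
    Has G := by
  classical
  have hN : N.Normal := inferInstance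
  let ν : N →* ℂˣ := f.comp (Subgroup.inclusion hNP)
  have hν : ∀ n, ν n ^ 2 = 1 := by
    intro n
    rw [← map_pow, show n ^ 2 = 1 from Subtype.ext (hexp n n.2), map_one]
  let T : Subgroup G := Cfsg.Agent.H692.Cliff.stab N (fun n => ((ν n : ℂˣ) : ℂ))
  have hT : ∀ g : G, g ∈ T ↔ ∀ n : N, ν ⟨g * n * g⁻¹, hN.conj_mem n n.2 g⟩ = ν n := by
    intro g
    exact forall_congr' fun n => ⟨fun h => Units.ext h, fun h => congrArg Units.val h⟩
  have hPT : (P : Subgroup G) ≤ T := by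
    intro g hg
    rw [hT]
    intro n
    have e : (Subgroup.inclusion hNP ⟨g * n * g⁻¹, hN.conj_mem n n.2 g⟩) =
        (⟨g, hg⟩ : (P : Subgroup G)) * Subgroup.inclusion hNP n * (⟨g, hg⟩ : (P : Subgroup G))⁻¹ := rfl
    show f (Subgroup.inclusion hNP ⟨g * n * g⁻¹, hN.conj_mem n n.2 g⟩) = f (Subgroup.inclusion hNP n)
    rw [e, map_mul, map_mul, map_inv, mul_comm, inv_mul_cancel_left]
  have hNT : N ≤ T := hNP.trans hPT
  have hPi : Odd (P : Subgroup G).index := by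
    rw [← Nat.not_even_iff_odd, even_iff_two_dvd]
    exact P.not_dvd_index
  have hidx : Odd T.index := Odd.of_dvd_nat hPi (Subgroup.index_dvd_of_le hPT)
  -- the transfer
  let H : Subgroup T := (P : Subgroup G).subgroupOf T
  have hHi : Odd H.index := by
    have h1 : H.index * T.index = (P : Subgroup G).index := Subgroup.relIndex_mul_index hPT
    exact Odd.of_dvd_nat hPi (Dvd.intro _ h1)
  let φ : H →* ℂˣ := f.comp (Subgroup.subgroupOfEquivOfLe hPT).toMonoidHom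
  let μ : T →* ℂˣ := MonoidHom.transfer φ
  have hNH : N.subgroupOf T ≤ H := fun x hx => hNP hx
  have hμN : ∀ n : N, μ ⟨n, hNT n.2⟩ = ν n := by
    intro n
    have h1 := Cfsg.Agent.CharDeep.TransferExt.transfer_apply_of_mem (N.subgroupOf T) hNH φ (by
      intro g n hn
      have h2 := (hT g).1 g.2 ⟨n, hn⟩
      exact h2) ⟨n, hNT n.2⟩ n.2
    have h3 : φ ⟨⟨n, hNT n.2⟩, hNH n.2⟩ = ν n := rfl
    rw [h3] at h1
    obtain ⟨k, hk⟩ := hHi
    rw [hk, pow_succ, pow_mul, hν, one_pow, one_mul] at h1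
    exact h1
  obtain ⟨a, ha⟩ := (IsPGroup.iff_card (p := 2)).1 P.isPGroup'
  have hμ2 : ∀ t : T, μ t ^ 2 ^ a = 1 := by
    intro t
    refine Cfsg.Agent.CharDeep.TransferExt.transfer_pow_eq_one φ (2 ^ a) (fun h => ?_) t
    show f _ ^ 2 ^ a = 1
    rw [← map_pow, ← ha, pow_card_eq_one', map_one]
  have := Fintype.ofFinite T
  by_cases hμ : ∀ t : T, μ t ^ 2 = 1
  · -- `μ` real
    have hne : NonElem (T ⧸ N.subgroupOf T) := by
      refine factor (N.subgroupOf T) (P.subtype hPT) (f := φ * (μ.comp H.subtype)⁻¹) ?_ ?_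
      · intro x hx
        have h1 : μ (x : T) = ν ⟨(x : T), hx⟩ := hμN ⟨(x : T), hx⟩
        show ν ⟨(x : T), hx⟩ * (μ (x : T))⁻¹ = 1
        rw [h1, mul_inv_cancel]
      · obtain ⟨x, hx⟩ := hx
        refine ⟨⟨⟨x, hPT x.2⟩, x.2⟩, ?_⟩
        show (f x * (μ ⟨x, hPT x.2⟩)⁻¹) ^ 2 ≠ 1
        rw [mul_pow, inv_pow, hμ, inv_one, mul_one]
        exact hx
    obtain ⟨χ, hχ, hχd, hg⟩ := ih T hNT hne
    have hirr := isIrr_lin_mul μ (isIrr_comp' _ (QuotientGroup.mk'_surjective (N.subgroupOf T)) hχ)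
    refine cliffUp N ν hν T hT hNT hidx ⟨_, hirr⟩ (fun n => ?_) ?_ fun hR => hg fun τ hτ g => ?_
    · show (μ ⟨n, hNT n.2⟩ : ℂ) * χ (QuotientGroup.mk' _ ⟨n, hNT n.2⟩) =
        (μ 1 : ℂ) * χ (QuotientGroup.mk' _ 1) * (ν n : ℂ)
      have h1 : QuotientGroup.mk' (N.subgroupOf T) ⟨n, hNT n.2⟩ = 1 := (QuotientGroup.eq_one_iff _).2 n.2
      rw [hμN, h1, map_one, map_one, Units.val_one, one_mul, mul_comm]
    · show Odd (charDegree fun t : T => (μ t : ℂ) * χ (QuotientGroup.mk' _ t))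
      rwa [charDegree_congr (ψ := χ) (by simp only [map_one, Units.val_one, one_mul])]
    · obtain ⟨t, rfl⟩ := QuotientGroup.mk'_surjective _ g
      have h1 : τ ((μ t : ℂ) * χ (QuotientGroup.mk' _ t)) = (μ t : ℂ) * χ (QuotientGroup.mk' _ t) := hR τ hτ t
      rw [map_mul, fix_of_sq τ (hμ t)] at h1
      exact mul_left_cancel₀ (μ t).ne_zero h1
  · -- `μ` nonreal
    push Not at hμ
    obtain ⟨t, ht⟩ := hμ
    have hirr : IsIrrCharacter T (fun t : T => ((μ t : ℂˣ) : ℂ)) := by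
      have := Cfsg.Agent.CharactersDeep.ExtUnique.isIrr_mul_hom (Core.isIrr_one (G := T)) μ
      simpa using this
    refine cliffUp N ν hν T hT hNT hidx ⟨_, hirr⟩ (fun n => ?_) ?_ fun hR => ht ?_
    · show ((μ ⟨n, hNT n.2⟩ : ℂˣ) : ℂ) = ((μ 1 : ℂˣ) : ℂ) * (ν n : ℂ)
      rw [hμN, map_one, Units.val_one, one_mul]
    · show Odd (charDegree (fun t : T => ((μ t : ℂˣ) : ℂ)))
      rw [charDegree_of (n := 1) (by simp)]
      exact odd_one
    · obtain ⟨τ, h2, h3⟩ := exists_two_neg_I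
      apply Units.ext
      rw [Units.val_pow_eq_pow_val]
      exact sq_of_fix h3 a _ (by rw [← Units.val_pow_eq_pow_val, hμ2, Units.val_one]) (hR τ h2 t)

end Two

section Simple

open Cfsg.Agent.Lib.MinNormalNonabelian Cfsg.Agent.H793.PC

theorem simple_step [Fact (Nat.Prime 2)]
    (rows : ∀ (S : Type u) [Group S] [Finite S] [IsSimpleGroup S], (∃ a b : S, a * b ≠ b * a) → Row S)
    (N : Subgroup G) [hN : N.Normal]
    (hmin : ∀ K : Subgroup G, K.Normal → K ≤ N → K = ⊥ ∨ K = N)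
    (hna : ¬ ∀ a ∈ N, ∀ b ∈ N, a * b = b * a) (hperf : ⁅N, N⁆ = N) (hG : ¬ NonElem (G ⧸ N))
    (P : Sylow 2 G) (f : (P : Subgroup G) →* ℂˣ) (hx : ∃ x, f x ^ 2 ≠ 1) : Has G := by
  classical
  have h1 := H315.SdNonreal.nonreal_on N hperf hG P f hx
  obtain ⟨T, hS, hSna, ⟨Q, hQ⟩, x, hxS, hfx⟩ := exists_comp N hmin hna P f h1
  have hd : Dec N := dec_of hmin hna
  have c := ctx P (T : Subgroup G) Q hQ
  -- the linear character of `Q`
  let ι : (Q : Subgroup (T : Subgroup G)) →* (P : Subgroup G) :=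
    { toFun := fun q => ⟨((q : (T : Subgroup G)) : G), (hQ q).1 q.2⟩
      map_one' := rfl
      map_mul' := fun a b => rfl }
  have hcomm : ∃ a b : (T : Subgroup G), a * b ≠ b * a := by
    by_contra hcon
    push Not at hcon
    exact hSna ⟨⟨hcon⟩⟩
  have hrow := rows (T : Subgroup G) hcomm Q _ c (f.comp ι) (by
    intro a ha y hy
    obtain ⟨g, hgP, -, h⟩ := mem_autP.1 ha
    have e : ι ⟨a y, c.stab a ha y hy⟩ = ⟨g, hgP⟩ * ι ⟨y, hy⟩ * (⟨g, hgP⟩ : (P : Subgroup G))⁻¹ := by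
      apply Subtype.ext
      exact h y
    rw [MonoidHom.comp_apply, MonoidHom.comp_apply, e, map_mul, map_mul, map_inv]
    rw [mul_comm (f _) (f _), mul_assoc, mul_inv_cancel, mul_one]) (by
    refine ⟨⟨⟨x, hxS⟩, (hQ _).2 x.2⟩, ?_⟩
    rw [MonoidHom.comp_apply]
    exact hfx)
  obtain ⟨θ, hθ, hodd, hinv, hnr⟩ := hrow
  obtain ⟨Θ, h3, h4, h5⟩ := Sd.product N hd (P : Subgroup G) T ⟨θ, hθ⟩ hodd (by
    intro g hgP hgS s s' hs
    have hg : g ∈ Subgroup.normalizer ((T : Subgroup G) : Set G) := by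
      rw [Subgroup.mem_normalizer_iff]
      intro y
      have h6 : g * y * g⁻¹ ∈ ((cj g T : minSet N) : Subgroup G) ↔ g⁻¹ * (g * y * g⁻¹) * g ∈ (T : Subgroup G) :=
        mem_cj g T
      have h7 : g⁻¹ * (g * y * g⁻¹) * g = y := by group
      rw [hgS, h7] at h6
      exact h6.symm
    have h6 : (T : Subgroup G).normalizerMonoidHom ⟨g, hg⟩ ∈ autP (P : Subgroup G) (T : Subgroup G) :=
      ⟨⟨g, hg⟩, hgP, rfl⟩
    have h7 : (T : Subgroup G).normalizerMonoidHom ⟨g, hg⟩ s = s' := Subtype.ext hs.symm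
    rw [← h7]
    exact hinv _ h6 s) hnr
  exact Sd.lift N hperf P Θ h3 h4 h5

end Simple

/-- A group whose Sylow `2`-subgroup has a linear character of order at least four has a character of odd
degree which is not `2`-rational (given the rows of the simple groups). -/
theorem has_of_nonElem [Fact (Nat.Prime 2)]
    (rows : ∀ (S : Type u) [Group S] [Finite S] [IsSimpleGroup S], (∃ a b : S, a * b ≠ b * a) → Row S)
    : ∀ (n : ℕ) (G : Type u) [Group G] [Finite G], Nat.card G = n →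
      NonElem G → Has G := by
  intro n
  induction n using Nat.strong_induction_on with
  | _ n ih =>
  intro G _ _ hn hNE
  by_contra hcon
  have hnt : Nontrivial G := by
    obtain ⟨P, f, x, hx⟩ := hNE
    by_contra h
    rw [not_nontrivial_iff_subsingleton] at h
    apply hx
    have : x = 1 := Subsingleton.elim _ _
    rw [this, map_one, one_pow]
  obtain ⟨N, hN, hN1, hmin⟩ : ∃ N : Subgroup G, N.Normal ∧ N ≠ ⊥ ∧
      ∀ K : Subgroup G, K.Normal → K ≤ N → K = ⊥ ∨ K = N := by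
    have hne : ({K : Subgroup G | K.Normal ∧ K ≠ ⊥}).Nonempty := ⟨⊤, inferInstance, top_ne_bot⟩
    obtain ⟨N, hN⟩ := (Set.toFinite {K : Subgroup G | K.Normal ∧ K ≠ ⊥}).exists_minimal hne
    refine ⟨N, hN.1.1, hN.1.2, fun K hK hle => ?_⟩
    by_cases h : K = ⊥
    · exact Or.inl h
    · exact Or.inr (le_antisymm hle (hN.2 ⟨hK, h⟩ hle))
  have hcardN : 1 < Nat.card N := by
    rw [Subgroup.one_lt_card_iff_ne_bot]
    exact hN1
  -- the quotient
  have hq : ¬ NonElem (G ⧸ N) := by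
    intro h
    apply hcon
    refine quot N (ih (Nat.card (G ⧸ N)) ?_ (G ⧸ N) rfl h)
    rw [← hn, ← N.card_mul_index]
    have h2 : 0 < N.index := Nat.pos_of_ne_zero N.index_ne_zero_of_finite
    show N.index < _
    nlinarith
  obtain ⟨P, f, hx⟩ := hNE
  have hfN : ∃ x : (P : Subgroup G), (x : G) ∈ N ∧ f x ≠ 1 := by
    by_contra h
    push Not at h
    exact hq (H388.Sd.factor_quot N P f h hx)
  apply hcon
  by_cases hab : ∀ a ∈ N, ∀ b ∈ N, a * b = b * a
  · obtain ⟨q, hqp, hexp⟩ := exists_exponent N hN1 hmin hab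
    obtain ⟨x, hxN, hfx⟩ := hfN
    have hx1 : (x : G) ≠ 1 := by
      intro h
      apply hfx
      have : x = 1 := Subtype.ext h
      rw [this, map_one]
    have hq2 : q = 2 := by
      have h1 : orderOf (x : G) ∣ q := orderOf_dvd_of_pow_eq_one (hexp _ hxN)
      have h2 : orderOf (x : G) = q := by
        rcases (Nat.dvd_prime hqp).1 h1 with h | h
        · exact absurd (orderOf_eq_one_iff.1 h) hx1
        · exact h
      obtain ⟨k, hk⟩ := IsPGroup.iff_orderOf.1 P.2 x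
      rw [← Subgroup.orderOf_coe, h2] at hk
      have h3 : q ∣ 2 ^ k := by rw [hk]
      exact (Nat.prime_dvd_prime_iff_eq hqp Nat.prime_two).1 (hqp.dvd_of_dvd_pow h3)
    subst hq2
    have hNp : IsPGroup 2 N := by
      intro a
      refine ⟨1, Subtype.ext ?_⟩
      have := hexp a a.2
      simpa using this
    have hNP : N ≤ (P : Subgroup G) := by
      obtain ⟨R, hR⟩ := hNp.exists_le_sylow
      obtain ⟨g, hg⟩ := MulAction.exists_smul_eq G R P
      intro a ha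
      have h1 : g⁻¹ * a * g ∈ (R : Subgroup G) := by
        have := hN.conj_mem a ha g⁻¹
        rw [inv_inv] at this
        exact hR this
      rw [← hg]
      change a ∈ (MulAut.conj g • (R : Subgroup G) : Subgroup G)
      rw [Subgroup.mem_pointwise_smul_iff_inv_smul_mem, ← map_inv]
      show g⁻¹ * a * g⁻¹⁻¹ ∈ _
      rw [inv_inv]
      exact h1
    refine Sd.two_step N hexp P hNP f hx ⟨x, hxN, hfx⟩ ?_
    intro T hNT hT
    refine ih (Nat.card (T ⧸ N.subgroupOf T)) ?_ _ rfl hT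
    have h1 : Nat.card (N.subgroupOf T) = Nat.card N :=
      Nat.card_congr (Subgroup.subgroupOfEquivOfLe hNT).toEquiv
    have h2 := (N.subgroupOf T).card_mul_index
    have h3 : Nat.card T ≤ Nat.card G := Subgroup.card_le_card_group T
    have h4 : 0 < (N.subgroupOf T).index := Nat.pos_of_ne_zero (Subgroup.index_ne_zero_of_finite)
    rw [← hn]
    show (N.subgroupOf T).index < _
    rw [h1] at h2
    nlinarith
  · have hperf : ⁅N, N⁆ = N := by
      have h1 : ⁅N, N⁆ ≤ N := Subgroup.commutator_le_right N N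
      rcases hmin ⁅N, N⁆ inferInstance h1 with h | h
      · exfalso
        apply hab
        intro a ha b hb
        have h2 : ⁅a, b⁆ ∈ ⁅N, N⁆ := Subgroup.commutator_mem_commutator ha hb
        rw [h, Subgroup.mem_bot, commutatorElement_eq_one_iff_mul_comm] at h2
        exact h2
      · exact h
    exact Sd.simple_step rows N hmin hab hperf hq P f hx

end Cfsg.Agent.ODD.Sd
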