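import Cfsg.Agent.ODD.Sd.Rows
import Cfsg.Agent.ODD.Sd.Red
import Cfsg.Agent.S0000

/-!
# S4787, the direction `<=` (helper10)
-/

set_option autoImplicit false

namespace Cfsg.Agent.ODD.Sd

open Cfsg Cfsg.Agent.ODD.Red

universe u

/-- **If a Sylow `2`-subgroup has a linear character of order at least four, some irreducible character of odd degree
is not `2`-rational.** -/
theorem exists_odd_not_rat2 {G : Type u} [Group G] [Finite G] (h : ¬ H643.Sd.Elem G) :
    ∃ χ : G → ℂ, IsIrrCharacter G χ ∧ Odd (charDegree χ) ∧ ¬ Rat2 χ := by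
  have : Fact (Nat.Prime 2) := ⟨Nat.prime_two⟩
  refine has_of_nonElem (fun S _ _ _ _ => row_of_known (S0000.result (G := S))) _ G rfl ?_
  by_contra h1
  exact h fun P f x => by_contra fun h2 => h1 ⟨P, f, x, h2⟩

/-- the wording of S4787 -/
theorem sq_mem_of_rat2 {G : Type u} [Group G] [Finite G] (P : Sylow 2 G)
    (h : ∀ χ : G → ℂ, IsIrrCharacter G χ → Odd (charDegree χ) → Rat2 χ) :
    ∀ x ∈ (P : Subgroup G), x ^ 2 ∈ ⁅(P : Subgroup G), (P : Subgroup G)⁆ := by
  have hE : H643.Sd.Elem G := by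
    by_contra h1
    obtain ⟨χ, h2, h3, h4⟩ := exists_odd_not_rat2 h1
    exact h4 (h χ h2 h3)
  intro x hx
  have h1 : (⟨x, hx⟩ : (P : Subgroup G)) ^ 2 ∈ commutator (P : Subgroup G) := by
    by_contra h1
    obtain ⟨f, hf⟩ := H634.Sd.exists_char (a := Abelianization.of ((⟨x, hx⟩ : (P : Subgroup G)) ^ 2)) fun h2 =>
      h1 (by rw [← Abelianization.ker_of]; exact h2)
    exact hf (by rw [map_pow, map_pow]; exact hE P (f.comp Abelianization.of) ⟨x, hx⟩)
  have h2 := Subgroup.mem_map_of_mem (P : Subgroup G).subtype h1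
  rwa [commutator_def, Subgroup.map_commutator, ← MonoidHom.range_eq_map, Subgroup.range_subtype] at h2

end Cfsg.Agent.ODD.Sd
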