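import Cfsg.Agent.ODD.Red.Cl
import Cfsg.Agent.H755.Sd.Abs
import Cfsg.Agent.H755.Sd.Reduce
import Cfsg.Agent.H150.Toral.Bridge
import Cfsg.Agent.Blocks.ExistsModular

/-!
# S4787, the direction `<=`: rows (helper10)

The chain of S4579 (`H643/Sd`, ...) with "not real, in the principal block" replaced by "not `Rat2`".
`Good`, `Row`; `exists_inv` (a `2`-rational character is fixed by an automorphism which inverts the `2 ^ k`-th roots
of unity); the abstract row theorems `good_of_lin`, `row_of_torus`, `row_of_toral`, `row_of_toral_set`, `row_congr`.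
-/

set_option autoImplicit false
set_option linter.unusedSectionVars false

open scoped ComplexConjugate Pointwise

namespace Cfsg.Agent.ODD.Sd

open Cfsg Subgroup Cfsg.Agent.ODD.Red Cfsg.Agent.Characters
open Cfsg.Agent.H643.Sd (Ctx Inv Elem)

universe u v

/-- irreducible, of odd degree, invariant under `A`, not `2`-rational -/
def Good {S : Type*} [Group S] (A : Subgroup (MulAut S)) : Prop :=
  ∃ θ : S → ℂ, IsIrrCharacter S θ ∧ Odd (charDegree θ) ∧ (∀ a ∈ A, ∀ g : S, θ (a g) = θ g) ∧ ¬ Rat2 θ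

/-- **The row statement.** -/
def Row (S : Type*) [Group S] : Prop :=
  ∀ (Q : Sylow 2 S) (A : Subgroup (MulAut S)) (c : Ctx Q A) (f : (Q : Subgroup S) →* ℂˣ), Inv c f →
    (∃ x, f x ^ 2 ≠ 1) → Good A

theorem row_of_elem {S : Type*} [Group S] (h : Elem S) : Row S := by
  rintro Q A c f _ ⟨x, hx⟩
  exact absurd (h Q f x) hx

/-- A `2`-rational character is fixed by an automorphism which inverts the `2 ^ k`-th roots of unity. -/
theorem exists_inv {G : Type*} [Group G] [Finite G] {χ : G → ℂ} (hχ : IsCharacter G χ) (h : Rat2 χ) (k : ℕ) :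
    ∃ σ : ℂ ≃+* ℂ, Fix σ χ ∧ ∀ z : ℂ, z ^ 2 ^ k = 1 → σ z = z⁻¹ := by
  obtain ⟨m, hm, hF⟩ := (rat2F_iff hχ).2 h
  have hcop : (2 ^ (k + 1)).Coprime m := Nat.Coprime.pow_left _ (Nat.coprime_two_left.2 hm)
  obtain ⟨e, h1, h2⟩ := Nat.chineseRemainder hcop (2 ^ (k + 1) - 1) 1
  have h0 : 0 < 2 ^ (k + 1) := by positivity
  have h3 : e.Coprime (2 ^ (k + 1) * m) := by
    refine Nat.Coprime.mul_right ?_ ?_
    · rw [Nat.Coprime, h1.gcd_eq]
      exact (Nat.coprime_self_sub_left h0).2 (Nat.coprime_one_left _)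
    · rw [Nat.Coprime, h2.gcd_eq]
      exact Nat.coprime_one_left _
  obtain ⟨σ, hσ⟩ := GaloisBasic.exists_ringEquiv_pow (mul_ne_zero h0.ne' hm.pos.ne') h3
  refine ⟨σ, fun g => fixed_of_mem_adjoin ?_ (hF g), fun z hz => ?_⟩
  · rintro _ rfl
    have h4 := exp_pow m hm.pos.ne'
    rw [hσ _ (by rw [mul_comm (2 ^ (k + 1)), pow_mul, h4, one_pow]), pow_eq_pow_of_modEq h2 h4, pow_one]
  · have h4 : z ^ 2 ^ (k + 1) = 1 := by rw [pow_succ, pow_mul, hz, one_pow]
    rw [hσ _ (by rw [pow_mul, h4, one_pow]), pow_eq_pow_of_modEq h1 h4]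
    refine eq_inv_of_mul_eq_one_left ?_
    rw [← pow_succ, Nat.sub_add_cancel h0, h4]

/-- the inverse of a linear character of `2`-power order -/
theorem map_indLin {S : Type u} [Group S] [Fintype S] (P : Subgroup S) (l : P →* ℂˣ) {k : ℕ}
    (hl : ∀ x, l x ^ 2 ^ k = 1) {σ : ℂ ≃+* ℂ} (hσ : ∀ z : ℂ, z ^ 2 ^ k = 1 → σ z = z⁻¹) :
    (fun g => σ (indFun P (fun t => (l t : ℂ)) g)) = indFun P fun t => ((l⁻¹ t : ℂˣ) : ℂ) := by
  funext g
  rw [map_indFun]
  congr 1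
  funext t
  rw [hσ _ (by rw [← Units.val_pow_eq_pow_val, hl, Units.val_one]), MonoidHom.inv_apply, Units.val_inv_eq_inv_val]

/-- a constituent of `Ind l` which is not a constituent of `Ind l⁻¹` is not `2`-rational -/
theorem not_rat2 {S : Type u} [Group S] [Fintype S] (P : Subgroup S) (l : P →* ℂˣ) {k : ℕ}
    (hl : ∀ x, l x ^ 2 ^ k = 1) {χ : S → ℂ} (hχ : IsCharacter S χ)
    (h1 : classInner (indFun P fun t => (l t : ℂ)) χ ≠ 0)
    (h2 : classInner (indFun P fun t => ((l⁻¹ t : ℂˣ) : ℂ)) χ = 0) : ¬ Rat2 χ := by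
  intro h
  obtain ⟨σ, h3, h4⟩ := exists_inv hχ h k
  have h5 := GaloisIrr.classInner_map σ (χ := indFun P fun t => (l t : ℂ)) hχ
  rw [map_indLin P l hl h4, show (fun g => σ (χ g)) = χ from funext h3, h2] at h5
  exact h1 ((map_eq_zero σ).1 h5.symm)

section Lin

open Cfsg.Agent.H755.Sd Cfsg.Agent.OddOrderCharacters.Clifford Cfsg.Agent.H246.Dl Cfsg.Agent.H809.GL3
open Cfsg.Agent.CharactersDeep.MackeyLinear (mul_conj_hom isIrrCharacter_indFun)

variable {S : Type u} [Group S] [Finite S]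

/-- **Good characters from linear characters.** -/
theorem good_of_lin {Q : Sylow 2 S} {A : Subgroup (MulAut S)}
    (c : Ctx Q A) (P : Subgroup S) (hQP : (Q : Subgroup S) ≤ P) (l : P →* ℂˣ) (hl : ∀ x, ∃ k : ℕ, l x ^ 2 ^ k = 1)
    (hirr : ∀ x : S, x ∉ P → ∃ (t : P) (hx : x⁻¹ * t * x ∈ P), l t ≠ l ⟨x⁻¹ * t * x, hx⟩)
    (hreal : ∀ x : S, ∃ (t : P) (hx : x⁻¹ * t * x ∈ P), l t ≠ (l ⟨x⁻¹ * t * x, hx⟩)⁻¹)
    (hinv : ∀ a (ha : a ∈ A) (x : S) (hx : x ∈ (Q : Subgroup S)),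
      l ⟨a x, hQP (c.stab a ha x hx)⟩ = l ⟨x, hQP hx⟩) : Good A := by
  classical
  have := Fintype.ofFinite S
  have : Fintype P := Fintype.ofFinite P
  have : Fact (Nat.Prime 2) := ⟨Nat.prime_two⟩
  have hθ := isIrrCharacter_indFun P l hirr
  set θ : S → ℂ := indFun P (fun t => (l t : ℂ)) with hθdef
  have hone : θ 1 = (P.index : ℂ) := by
    rw [hθdef, Cfsg.Agent.OddOrderCharacters.IndRes.indFun_apply_one, map_one, Units.val_one, mul_one]
  have hodd : Odd P.index := by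
    have h1 : Odd (Q : Subgroup S).index := by
      rw [← Nat.not_even_iff_odd, even_iff_two_dvd]
      exact Q.not_dvd_index
    exact h1.of_dvd_nat (Subgroup.index_dvd_of_le hQP)
  have hnr : ¬ Rat2 θ := by
    choose k hk using hl
    refine not_rat2 P l (k := ∑ x, k x) (fun x => ?_) (Core.isIrr_isCharacter hθ) ?_ ?_
    · obtain ⟨j, hj⟩ := Nat.exists_eq_add_of_le
        (Finset.single_le_sum (f := k) (fun _ _ => Nat.zero_le _) (Finset.mem_univ x))
      rw [hj, pow_add, pow_mul, hk, one_pow]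
    · rw [Core.classInner_irr_self hθ]
      exact one_ne_zero
    · rw [← Core.classInner_conj_symm, inner_eq_zero P P l l⁻¹ hreal, map_zero]
  refine ⟨θ, hθ, ?_, ?_, hnr⟩
  · -- the degree
    have h1 : charDegree θ = P.index := by
      unfold charDegree
      rw [hone, Complex.natCast_re, Nat.floor_natCast]
    change Odd (charDegree θ)
    rw [h1]
    exact hodd
  · -- invariance
    intro a ha g
    change θ (a g) = θ g
    let P' : Subgroup S := P.comap (a : S ≃* S).toMonoidHom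
    let l' : P' →* ℂˣ := l.comp ((a : S ≃* S).toMonoidHom.subgroupComap P)
    have hθ' : (indFun P' fun t => ((l' t : ℂˣ) : ℂ)) = fun g => θ (a g) := by
      funext g
      exact indFun_comp a P l g
    -- the two characters agree on the intersection
    have hQP' : (Q : Subgroup S) ≤ P' := fun x hx => hQP (c.stab a ha x hx)
    have hagr : ∀ (x : S) (hx : x ∈ P) (hx' : x ∈ P'), l ⟨x, hx⟩ = l' ⟨x, hx'⟩ := by
      intro x hx hx'
      let D : Subgroup S := P ⊓ P'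
      let μ : D →* ℂˣ := (l.comp (Subgroup.inclusion inf_le_left)) * (l'.comp (Subgroup.inclusion inf_le_right))⁻¹
      have hQD : (Q : Subgroup S) ≤ D := le_inf hQP hQP'
      have h1 : ∀ y : D, μ y = 1 := by
        refine eq_one_of_odd (K := (Q : Subgroup S).subgroupOf D) ?_ μ ?_ ?_
        · have h2 : Odd (Q : Subgroup S).index := by
            rw [← Nat.not_even_iff_odd, even_iff_two_dvd]
            exact Q.not_dvd_index
          exact h2.of_dvd_nat (Subgroup.relIndex_dvd_index_of_le hQD)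
        · intro y
          obtain ⟨k, hk⟩ := hl (Subgroup.inclusion inf_le_left y)
          obtain ⟨k', hk'⟩ := hl ((a : S ≃* S).toMonoidHom.subgroupComap P (Subgroup.inclusion inf_le_right y))
          refine ⟨k + k', ?_⟩
          change (l _ * (l _)⁻¹) ^ _ = 1
          rw [mul_pow, inv_pow, pow_add, pow_mul, hk, one_pow, mul_comm (2 ^ k), pow_mul]
          erw [hk']
          rw [one_pow, inv_one, one_mul]
        · intro y hy
          have h3 := hinv a ha y hy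
          change l _ * (l _)⁻¹ = 1
          rw [mul_inv_eq_one]
          exact h3.symm
      exact mul_inv_eq_one.1 (h1 ⟨x, hx, hx'⟩)
    have h1 := inner_ne_zero P P' l l' hagr
    rw [hθ'] at h1
    have hirr' : IsIrrCharacter S (fun g => θ (a g)) := by
      exact Core.isIrr_comp (a : S ≃* S).toMonoidHom (a : S ≃* S).surjective hθ
    by_cases heq : θ = fun g => θ (a g)
    · exact (congrFun heq g).symm
    · exact absurd (Core.classInner_irr_ne hθ hirr' heq) h1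

end Lin

section Move

open Cfsg.Agent.H55.Sd Cfsg.Agent.Characters.Core Cfsg.Agent.H755.Sd.Reduce

variable {S : Type u} [Group S] [Finite S]

theorem good_of_cjA {A : Subgroup (MulAut S)} {g : S} (h : Good (cjA g A)) :
    Good A := by
  obtain ⟨θ, h1, h2, h3, h4⟩ := h
  refine ⟨θ, h1, h2, ?_, h4⟩
  intro a ha x
  have hcl : IsClassFunction S θ := isIrr_isClassFunction h1
  have ha' : MulAut.conj g * a * (MulAut.conj g)⁻¹ ∈ cjA g A := by
    rw [mem_cjA]
    have e : (MulAut.conj g)⁻¹ * (MulAut.conj g * a * (MulAut.conj g)⁻¹) * MulAut.conj g = a := by group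
    rw [e]
    exact ha
  have h5 := h3 _ ha' (g * x * g⁻¹)
  have h6 : (MulAut.conj g * a * (MulAut.conj g)⁻¹) (g * x * g⁻¹) = g * a x * g⁻¹ := by
    rw [← map_inv, MulAut.mul_apply, MulAut.mul_apply, MulAut.conj_apply, MulAut.conj_apply, inv_inv]
    congr 3
    group
  rw [h6, hcl, hcl] at h5
  exact h5

/-- It is enough to treat normalised contexts. -/
theorem row_of_normalised {p : ℕ} {U T : Subgroup S} (h : TorAut p U T) {𝓜 : Set (Subgroup S)} (h𝓜 : Frames T 𝓜)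
    (H : ∀ (Q : Sylow 2 S) (A : Subgroup (MulAut S)) (c : Ctx Q A),
      NCtx Q A U T 𝓜 → ∀ f : (Q : Subgroup S) →* ℂˣ, Inv c f → (∃ x, f x ^ 2 ≠ 1) → Good A) : Row S := by
  intro Q A c f hf hne
  obtain ⟨g, hg⟩ := exists_norm h h𝓜 c
  exact good_of_cjA (H _ _ (Ctx.conj c g) hg (cjf g f) (inv_cjf hf) (ne_cjf hne))

theorem row_of_torus {T Q₁ : Subgroup S} (h1 : IsPGroup 2 Q₁) (h2 : Odd Q₁.index)
    (hT : ∀ x ∈ Q₁, MulAut.conj x • T = T) (haut : ∀ α : MulAut S, ∃ s : S, α • T = MulAut.conj s • T)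
    (H : ∀ (Q : Sylow 2 S) (A : Subgroup (MulAut S)) (c : Ctx Q A),
      (Q : Subgroup S) = Q₁ → (∀ a ∈ A, a • T = T) → ∀ f : (Q : Subgroup S) →* ℂˣ, Inv c f →
      (∃ x, f x ^ 2 ≠ 1) → Good A) : Row S := by
  have h2' : Fact (Nat.Prime 2) := ⟨Nat.prime_two⟩
  -- the general statement: `A` stabilises `T`
  have key : ∀ (Q : Sylow 2 S) (A : Subgroup (MulAut S)) (c : Ctx Q A),
      (∀ a ∈ A, a • T = T) → ∀ f : (Q : Subgroup S) →* ℂˣ, Inv c f → (∃ x, f x ^ 2 ≠ 1) → Good A := by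
    intro Q A c hAT f hf hne
    -- the stabiliser of `T` in `S`
    let N : Subgroup S := (MulAction.stabilizer (MulAut S) T).comap (MulAut.conj : S →* MulAut S)
    have hN : ∀ x, x ∈ N ↔ MulAut.conj x • T = T := fun x => MulAction.mem_stabilizer_iff
    have hQN : (Q : Subgroup S) ≤ N := fun x hx => (hN x).2 (hAT _ (c.inner x hx))
    have hQ₁N : Q₁ ≤ N := fun x hx => (hN x).2 (hT x hx)
    have hodd : Odd (Q₁.relIndex N) := h2.of_dvd_nat ⟨_, (relIndex_mul_index hQ₁N).symm⟩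
    obtain ⟨h, hhN, hh⟩ := Cfsg.Agent.H55.Sd.exists_conj_le hQ₁N h1 hodd hQN Q.2
    have hQ' : ((h⁻¹ • Q : Sylow 2 S) : Subgroup S) = Q₁ := by
      have h3 : ((h⁻¹ • Q : Sylow 2 S) : Subgroup S) ≤ Q₁ := by
        intro x hx
        rw [mem_smul_sylow, inv_inv] at hx
        have h4 := hh _ hx
        have e : h⁻¹ * (h * x * h⁻¹) * h = x := by group
        rwa [e] at h4
      exact ((h⁻¹ • Q : Sylow 2 S).is_maximal' h1 h3).symm
    have hN' : ∀ x ∈ N, MulAut.conj x • T = T := fun x hx => (hN x).1 hx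
    refine good_of_cjA (g := h⁻¹) (H _ _ (Ctx.conj c h⁻¹) hQ' ?_ (cjf h⁻¹ f) (inv_cjf hf) (ne_cjf hne))
    intro a ha
    have h5 := hAT _ (mem_cjA.1 ha)
    rw [mul_smul, mul_smul, hN' _ (N.inv_mem hhN), inv_smul_eq_iff, hN' _ (N.inv_mem hhN)] at h5
    exact h5
  intro Q A c f hf hne
  obtain ⟨g, hg⟩ := exists_fixed h2 hT haut c.isP
  refine good_of_cjA (g := g⁻¹) (key _ _ (Ctx.conj c g⁻¹) ?_ (cjf g⁻¹ f) (inv_cjf hf) (ne_cjf hne))
  intro a ha
  have h3 := hg _ (mem_cjA.1 ha)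
  rw [map_inv, inv_inv, mul_smul, mul_smul, inv_smul_smul] at h3
  exact smul_left_cancel _ h3

/-- **`Row` is invariant under isomorphisms.** -/
theorem row_congr {S' : Type v} [Group S'] [Finite S'] (hR : Row S) (e : S ≃* S') : Row S' := by
  intro Q' A' c' f' hf' hne
  have hle : (Q' : Subgroup S') ≤ e.toMonoidHom.range := by
    rw [MonoidHom.range_eq_top.2 e.surjective]; exact le_top
  let Q : Sylow 2 S := Q'.comapOfInjective e.toMonoidHom e.injective hle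
  have hQ : ∀ x, x ∈ (Q : Subgroup S) ↔ e x ∈ (Q' : Subgroup S') := fun x => Iff.rfl
  let A : Subgroup (MulAut S) := A'.comap (MulAut.congr e).toMonoidHom
  have hA : ∀ a, a ∈ A ↔ MulAut.congr e a ∈ A' := fun a => Iff.rfl
  have happ : ∀ (a : MulAut S) (x : S'), MulAut.congr e a x = e (a (e.symm x)) := fun a x => rfl
  have c : Ctx Q A := by
    refine ⟨c'.isP.comap_of_injective _ (MulAut.congr e).injective, fun x hx => ?_, fun a ha x hx => ?_⟩
    · have h1 : MulAut.congr e (MulAut.conj x) = MulAut.conj (e x) := by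
        ext y
        rw [happ, MulAut.conj_apply, MulAut.conj_apply, map_mul, map_mul, map_inv, e.apply_symm_apply]
      rw [hA, h1]
      exact c'.inner _ hx
    · have h1 := c'.stab _ ((hA a).1 ha) (e x) hx
      rw [happ, e.symm_apply_apply] at h1
      exact h1
  let ι : (Q : Subgroup S) →* (Q' : Subgroup S') :=
    { toFun := fun x => ⟨e x, (hQ x).1 x.2⟩
      map_one' := Subtype.ext (map_one e)
      map_mul' := fun x y => Subtype.ext (map_mul e _ _) }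
  have hι : ∀ (x : S) (hx : x ∈ (Q : Subgroup S)), ι ⟨x, hx⟩ = ⟨e x, (hQ x).1 hx⟩ := fun _ _ => rfl
  have hf : Inv c (f'.comp ι) := by
    intro a ha x hx
    rw [MonoidHom.comp_apply, MonoidHom.comp_apply, hι, hι]
    have h1 := hf' _ ((hA a).1 ha) (e x) ((hQ x).1 hx)
    rw [← h1]
    congr 1
    apply Subtype.ext
    dsimp only
    rw [happ, e.symm_apply_apply]
  obtain ⟨θ, hθ, hodd, hinv, hg⟩ := hR Q A c (f'.comp ι) hf (by
    obtain ⟨x, hx⟩ := hne
    refine ⟨⟨e.symm x, (hQ _).2 (by rw [e.apply_symm_apply]; exact x.2)⟩, ?_⟩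
    rw [MonoidHom.comp_apply, hι]
    have h1 : (⟨e (e.symm x), (hQ _).1 ((hQ _).2 (by rw [e.apply_symm_apply]; exact x.2))⟩ : (Q' : Subgroup S')) = x :=
      Subtype.ext (e.apply_symm_apply _)
    rw [h1]
    exact hx)
  refine ⟨fun x => θ (e.symm x), isIrr_comp' e.symm.toMonoidHom e.symm.surjective hθ, ?_, fun a ha g => ?_,
    fun h => hg fun τ hτ g => ?_⟩
  · rwa [charDegree_congr (ψ := θ) (by simp only [map_one])]
  · obtain ⟨b, rfl⟩ := (MulAut.congr e).surjective a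
    show θ (e.symm (e (b (e.symm g)))) = _
    rw [e.symm_apply_apply]
    exact hinv b ha _
  · have h1 := h τ hτ (e g)
    simpa only [e.symm_apply_apply] using h1

end Move

section Toral

open Cfsg.Agent.H55.Sd Cfsg.Agent.H150.Toral

variable {S : Type u} [Group S] [Fintype S]

theorem inv_not_mem {U T N : Subgroup S} (h : Sys U T N) {s : T →* ℂˣ} (hodd : Odd (orb T N s).ncard)
    (hs : ∃ t, s t ^ 2 ≠ 1) : s⁻¹ ∉ orb T N s := by
  classical
  intro h2
  have hinv : ∀ t ∈ orb T N s, t⁻¹ ∈ orb T N s := by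
    rintro t ⟨n, hn, hc⟩
    refine h.orb_trans ⟨n, hn, fun a b hab => ?_⟩ h2
    rw [MonoidHom.inv_apply, MonoidHom.inv_apply, hc a b hab]
  have hsq : ∀ t ∈ orb T N s, t⁻¹ ≠ t := by
    rintro t ⟨n, hn, hc⟩ hh
    obtain ⟨x, hx⟩ := hs
    apply hx
    have h3 := hc ⟨_, h.NT n hn x x.2⟩ x (by
      change (x : S) = n⁻¹ * (n * x * n⁻¹) * n
      group)
    have h4 := DFunLike.congr_fun hh ⟨_, h.NT n hn x x.2⟩
    rw [MonoidHom.inv_apply, h3] at h4
    rw [pow_two]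
    nth_rewrite 1 [← h4]
    exact inv_mul_cancel _
  have h3 : ((h.finite_orb s).toFinset.card : ZMod 2) = 0 := by
    have h4 : ∑ _t ∈ (h.finite_orb s).toFinset, (1 : ZMod 2) = 0 := by
      refine Finset.sum_involution (fun t _ => t⁻¹) ?_ ?_ ?_ ?_
      · intro t _; decide
      · intro t ht _
        exact hsq t ((h.finite_orb s).mem_toFinset.1 ht)
      · intro t ht
        exact (h.finite_orb s).mem_toFinset.2 (hinv t ((h.finite_orb s).mem_toFinset.1 ht))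
      · intro t _
        exact inv_inv t
    rwa [Finset.sum_const, nsmul_eq_mul, mul_one] at h4
  rw [← Set.ncard_eq_toFinset_card _ (h.finite_orb s)] at h3
  have h4 : Even (orb T N s).ncard := by
    rwa [ZMod.natCast_eq_zero_iff_even] at h3
  exact (Nat.not_even_iff_odd.2 hodd) h4

/-- the hypothesis of the toral rows -/
def NR (U T N : Subgroup S) : Prop :=
  ∀ σ : ↥(U ⊔ T) →* ℂˣ, TorChar (U ⊔ T) U T N σ → ∀ χ : IrrCharacter S,
    classInner (indFun (U ⊔ T) (fun b => (σ b : ℂ))) (χ : S → ℂ) ≠ 0 → ¬ Rat2 (χ : S → ℂ)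

theorem nr_aux {U T N : Subgroup S} (h : Sys U T N) {B : Subgroup S} (hB : h.B = B) {σ : B →* ℂˣ}
    (hσ : TorChar B U T N σ) (χ : IrrCharacter S) (hχ : classInner (indFun B (fun b => (σ b : ℂ))) (χ : S → ℂ) ≠ 0) :
    ¬ Rat2 (χ : S → ℂ) := by
  subst hB
  let s : T →* ℂˣ := σ.comp (inclusion h.T_le)
  have hs : ∀ t : T, s t = σ ⟨t, h.T_le t.2⟩ := fun _ => rfl
  have hlin : h.lin s = σ := by
    ext b
    obtain ⟨u, hu, e⟩ := h.pr_spec b
    rw [h.lin_eq s hu e, hs]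
    have h1 : b = ⟨u, h.U_le hu⟩ * ⟨h.pr b, h.T_le (h.pr b).2⟩ := Subtype.ext e
    conv_rhs => rw [h1]
    rw [map_mul, hσ.triv u hu (h.U_le hu), one_mul]
  have horb : orb T N s = conjSet h.B T N σ := by
    ext τ
    constructor
    · rintro ⟨n, hn, hc⟩
      refine ⟨n⁻¹, N.inv_mem hn, fun t ht => ?_⟩
      have h1 : n⁻¹ * (t : S) * n ∈ T := h.NT' hn t.2
      rw [hc t ⟨_, h1⟩ rfl, hs]
      congr 1
      apply Subtype.ext
      change n⁻¹ * (t : S) * n = n⁻¹ * t * n⁻¹⁻¹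
      rw [inv_inv]
    · rintro ⟨n, hn, hc⟩
      refine ⟨n⁻¹, N.inv_mem hn, fun a b hab => ?_⟩
      rw [inv_inv] at hab
      have h1 : n * (a : S) * n⁻¹ ∈ h.B := h.T_le (h.NT n hn a a.2)
      rw [hc a h1, hs]
      congr 1
      exact Subtype.ext hab.symm
  obtain ⟨k, hk⟩ := hσ.two
  have h1 : s⁻¹ ∉ orb T N s := by
    refine inv_not_mem h ?_ ?_
    · rw [horb]
      have := hσ.odd
      rwa [Nat.card_coe_set_eq] at this
    · obtain ⟨b, hb⟩ := hσ.ne
      refine ⟨h.proj b, ?_⟩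
      rwa [← Sys.lin_apply, hlin]
  refine not_rat2 _ σ hk (Core.isIrr_isCharacter χ.2) hχ ?_
  rw [← hlin] at hχ ⊢
  exact no_common (h.isCharacter_X s⁻¹) (h.isCharacter_X s) (h.inner_X_eq_zero h1) χ hχ

theorem nr_of_sys {U T N : Subgroup S} (h : Sys U T N) : NR U T N := fun _ hσ χ hχ => nr_aux h h.B_eq hσ χ hχ

/-- **TL-2, main version.** -/
theorem row_of_toral {p : ℕ} {U T : Subgroup S} (h : TorAut p U T) (Ψ : Set (U →* ℂˣ)) (hΨ : PsiStable U T Ψ)
    (hodd : Odd (Nat.card (torb U T '' Ψ))) (𝓜 : Set (Subgroup S)) (h𝓜 : Frames T 𝓜) (hreal : RealOnT U T 𝓜)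
    (htl : ∀ M : Ideal AlgInt, IsPModular 2 M → ∀ σ : ↥(U ⊔ T) →* ℂˣ,
      TorChar (U ⊔ T) U T (Subgroup.normalizer (T : Set S)) σ → ∀ ψ ∈ Ψ, TorConcl M (U ⊔ T) U σ ψ)
    (hnr : NR U T (Subgroup.normalizer (T : Set S))) : Row S := by
  obtain ⟨M, hM⟩ := Blocks.ExistsModular.exists_isPModular Nat.prime_two
  apply Sd.row_of_normalised h h𝓜
  intro Q A c n f hf hne
  obtain ⟨σ, hσ, hσA, -⟩ := exists_sigma h c n f hf hne hreal
  have hT : ∀ t ∈ T, ∀ u ∈ U, t * u * t⁻¹ ∈ U := fun t ht u hu => T_norm h ht hu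
  obtain ⟨ψ, hψ, hψA⟩ := exists_fixed_orbit hT hΨ hodd c.isP
  obtain ⟨χ, h1, h2, h3, h4, -, -⟩ := htl M hM σ hσ ψ hψ
  refine ⟨χ, χ.2, h4, ?_, hnr σ hσ χ h1⟩
  intro a ha g
  -- `χ ∘ a` is again a common constituent
  have hF : ∀ g, indFun (U ⊔ T) (fun b => (σ b : ℂ)) (a g) = indFun (U ⊔ T) (fun b => (σ b : ℂ)) g :=
    fun g => indSigma_inv n hσA ha g
  have hG : ∀ g, indFun U (fun u => (ψ u : ℂ)) (a g) = indFun U (fun u => (ψ u : ℂ)) g := by
    intro g
    obtain ⟨x, hx, b, hb, rfl, hbU, hbT⟩ := n.dec a ha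
    rw [MulAut.mul_apply, indFun_conj, indPsi hbU, indFun_torb hT (hψA b hb hbU hbT)]
  have h7 := h3 ⟨(χ : S → ℂ) ∘ a, isIrr_aut χ a⟩ (by
    show classInner _ ((χ : S → ℂ) ∘ a) ≠ 0
    rw [classInner_inv hF]
    exact h1) (by
    show classInner _ ((χ : S → ℂ) ∘ a) ≠ 0
    rw [classInner_inv hG]
    exact h2)
  have h8 : (χ : S → ℂ) ∘ a = (χ : S → ℂ) := congrArg Subtype.val h7
  exact congrFun h8 g

/-- **TL-2, second version**: the set of all common constituents of `Ind_B σ` and the `Ind_U ψ`, `ψ ∈ Ψ`. -/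
theorem row_of_toral_set {p : ℕ} {U T : Subgroup S} (h : TorAut p U T) (Ψ : Set (U →* ℂˣ)) (hΨ : PsiStable U T Ψ)
    (𝓜 : Set (Subgroup S)) (h𝓜 : Frames T 𝓜) (hreal : RealOnT U T 𝓜)
    (htl : ∀ σ : ↥(U ⊔ T) →* ℂˣ,
      TorChar (U ⊔ T) U T (Subgroup.normalizer (T : Set S)) σ →
      Odd (Nat.card {χ : IrrCharacter S // classInner (indFun (U ⊔ T) (fun b => (σ b : ℂ))) (χ : S → ℂ) ≠ 0 ∧
        ∃ ψ ∈ Ψ, classInner (indFun U (fun u => (ψ u : ℂ))) (χ : S → ℂ) ≠ 0}) ∧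
      ∀ χ : IrrCharacter S, classInner (indFun (U ⊔ T) (fun b => (σ b : ℂ))) (χ : S → ℂ) ≠ 0 →
        (∃ ψ ∈ Ψ, classInner (indFun U (fun u => (ψ u : ℂ))) (χ : S → ℂ) ≠ 0) →
        Odd (charDegree (χ : S → ℂ)))
    (hnr : NR U T (Subgroup.normalizer (T : Set S))) : Row S := by
  apply Sd.row_of_normalised h h𝓜
  intro Q A c n f hf hne
  obtain ⟨σ, hσ, hσA, -⟩ := exists_sigma h c n f hf hne hreal
  obtain ⟨hodd, hgood⟩ := htl σ hσ
  have hF : ∀ a ∈ A, ∀ g, indFun (U ⊔ T) (fun b => (σ b : ℂ)) (a g) = indFun (U ⊔ T) (fun b => (σ b : ℂ)) g :=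
    fun a ha g => indSigma_inv n hσA ha g
  have hG : ∀ a ∈ A, ∀ χ : IrrCharacter S, (∃ ψ ∈ Ψ, classInner (indFun U (fun u => (ψ u : ℂ))) (χ : S → ℂ) ≠ 0) →
      ∃ ψ ∈ Ψ, classInner (indFun U (fun u => (ψ u : ℂ))) ((χ : S → ℂ) ∘ a) ≠ 0 := by
    rintro a ha χ ⟨ψ, hψ, h1⟩
    obtain ⟨x, hx, b, hb, rfl, hbU, hbT⟩ := n.dec a ha
    refine ⟨ψ.comp (resA hbU), hΨ b hbU hbT ψ hψ _ (fun u h => rfl), ?_⟩
    have h2 : indFun U (fun u => ((ψ.comp (resA hbU)) u : ℂ)) =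
        indFun U (fun u => (ψ u : ℂ)) ∘ (MulAut.conj x * b : MulAut S) := by
      funext g
      show _ = indFun U (fun u => (ψ u : ℂ)) ((MulAut.conj x * b) g)
      rw [MulAut.mul_apply, indFun_conj, indPsi hbU]
    rw [h2, classInner_aut]
    exact h1
  obtain ⟨χ, hχ, hχA⟩ := exists_fixed_irr c.isP
    {χ : IrrCharacter S | classInner (indFun (U ⊔ T) (fun b => (σ b : ℂ))) (χ : S → ℂ) ≠ 0 ∧
      ∃ ψ ∈ Ψ, classInner (indFun U (fun u => (ψ u : ℂ))) (χ : S → ℂ) ≠ 0} (by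
    rintro a ha χ ⟨h1, h2⟩
    refine ⟨?_, hG a ha χ h2⟩
    show classInner _ ((χ : S → ℂ) ∘ a) ≠ 0
    rw [classInner_inv (hF a ha)]
    exact h1) hodd
  exact ⟨χ, χ.2, hgood χ hχ.1 hχ.2, hχA, hnr σ hσ χ hχ.1⟩

end Toral

end Cfsg.Agent.ODD.Sd
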