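import Cfsg.Agent.ODD.Sd.Def
import Cfsg.Agent.H643.Sd.Rows

/-!
# S4787, the direction `<=`: all rows (helper10)
-/

set_option autoImplicit false
set_option linter.unusedSectionVars false

namespace Cfsg.Agent.ODD.Sd

open Cfsg Cfsg.Agent.ODD.Red
open Cfsg.Agent.H643.Sd (Ctx Inv Elem elem_prime elem_alt elem_psp elem_suzuki elem_2f4)

universe u v

section Psl

open Subgroup Equiv Matrix Cfsg.Agent.H755.Sd
open Cfsg.Agent.H139.Bruhat Cfsg.Agent.H755.Sd.Syl Cfsg.Agent.H755.Sd.PermU Cfsg.Agent.H755.Sd.Par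
open Cfsg.Agent.ClassicalGeometry.AutPSL.Auto Cfsg.Agent.ClassicalGeometry.AutPSL.Root
open scoped MatrixGroups Pointwise
open TD

/-- **The row of `PSL_n(q)`, `q ≡ 1 mod 4`, `n` not a power of two.** -/
theorem row_core {F : Type} [Field F] {n : ℕ} [Fintype F] {S : Type u} [Group S] [Finite S]
    {π : Matrix.SpecialLinearGroup (Fin n) F →* S} (hq : 4 ∣ Fintype.card F - 1) (hn3 : 3 ≤ n) (hn : ∀ k, n ≠ 2 ^ k)
    (hπ : Function.Surjective π) (hker : ∀ x, π x = 1 → x ∈ center (Matrix.SpecialLinearGroup (Fin n) F))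
    (haut : ∀ α : MulAut S, ∃ (A : GL (Fin n) F) (β : MulAut (Matrix.SpecialLinearGroup (Fin n) F)) (τ : Fˣ ≃* Fˣ),
      Std β τ ∧ ∀ x, α (π x) = π ((cj A * β) x)) : Row S := by
  have hodd := odd_card hq
  have hneg : IsSquare (-1 : F) := by
    rw [FiniteField.isSquare_neg_one_iff]
    have : 1 < Fintype.card F := Fintype.one_lt_card
    omega
  obtain ⟨D⟩ := TD.exists_data F (n := n) ⟨0, by omega⟩
  obtain ⟨h1, h2⟩ := odd_index_QH hq D hπ
  refine Sd.row_of_torus h1 h2 (T := (DS F n).map π) (fun x hx => conj_T hx) ?_ ?_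
  · intro α
    obtain ⟨A, β, τ, hβ, hα⟩ := haut α
    exact aut_T (by omega) hβ hα
  · intro Q A c hQ hAT f hf hne
    have hmem : ∀ y : D.QH, π y ∈ (Q : Subgroup S) := by
      intro y
      rw [hQ]
      exact mem_map_of_mem π y.2
    let fh : ↥D.QH →* ℂˣ := f.comp ((π.comp D.QH.subtype).codRestrict (Q : Subgroup S) hmem)
    have hfh : ∀ y : D.QH, fh y = f ⟨π y, hmem y⟩ := fun y => rfl
    have hfk : ∀ y : D.QH, π y = 1 → fh y = 1 := by
      intro y hy
      rw [hfh]
      have : (⟨π y, hmem y⟩ : (Q : Subgroup S)) = 1 := Subtype.ext hy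
      rw [this, map_one]
    have hne' : ∃ x, fh x ^ 2 ≠ 1 := by
      obtain ⟨⟨x, hx⟩, hx2⟩ := hne
      have hx' := hx
      rw [hQ] at hx'
      obtain ⟨y, hy, rfl⟩ := hx'
      exact ⟨⟨y, hy⟩, hx2⟩
    obtain ⟨b, hb1, hb2, l, hl, hlpow, hirr, hreal⟩ :=
      exists_lin (π := π) (fh := fh) hn (by omega) hneg hπ hker hfk hne'
    have hW := W_le_Yst fh hn
    have hQP : D.QH ≤ PS F b := by
      intro x hx
      obtain ⟨d, σ, -, hσ, hx⟩ := mem_QH.1 hx
      show Matrix.SpecialLinearGroup.toGL x ∈ PB F b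
      rw [hx]
      exact mul_mem (dgl_mem d) (perm_mem fun i => (hb2 _ _).2 (hW hσ i))
    have hQP' : (Q : Subgroup S) ≤ (PS F b).map π := by
      rw [hQ]
      exact map_mono hQP
    refine good_of_lin c _ hQP' l hlpow hirr hreal ?_
    intro a ha x hx
    have hx' := hx
    rw [hQ] at hx'
    obtain ⟨y, hy, hyx⟩ := hx'
    obtain ⟨A', β, τ, hβ, hα⟩ := haut a
    obtain ⟨m1, m2, hinv⟩ := LamS_invariant (fh := fh) hodd hb1 hb2 hW (γ := cj A' * β) rfl hβ hn3 (by
        -- diagonal matrices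
        intro z t hz
        have h3 : π ((cj A' * β) z) ∈ (DS F n).map π := by
          rw [← hα, ← hAT a ha]
          exact ⟨π z, ⟨z, mem_DS.2 ⟨t, hz⟩, rfl⟩, rfl⟩
        obtain ⟨z', hz', h4⟩ := h3
        have h5 : z'⁻¹ * (cj A' * β) z ∈ center (Matrix.SpecialLinearGroup (Fin n) F) := by
          apply hker
          rw [map_mul, map_inv, h4, inv_mul_cancel]
        have h6 : (cj A' * β) z ∈ DS F n := by
          have e : (cj A' * β) z = z' * (z'⁻¹ * (cj A' * β) z) := by group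
          rw [e]
          exact mul_mem hz' (center_le_DS (by omega) h5)
        exact mem_DS.1 h6) (by
        intro z hz hz'
        rw [hfh, hfh]
        have h3 := hf a ha (π z) (hmem ⟨z, hz⟩)
        rw [← h3]
        congr 1
        exact Subtype.ext (hα z).symm) hy
    have e1 : l ⟨x, hQP' hx⟩ = LamS b (sf fh) ⟨y, m1⟩ := by
      rw [← hl y m1]
      congr 1
      exact Subtype.ext hyx.symm
    have e2 : l ⟨a x, hQP' (c.stab a ha x hx)⟩ = LamS b (sf fh) ⟨(cj A' * β) y, m2⟩ := by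
      rw [← hl _ m2]
      congr 1
      apply Subtype.ext
      show a x = π ((cj A' * β) y)
      rw [← hα, hyx]
    rw [e1, e2, hinv]

/-- **The row of `PSL_n(q)`.** -/
theorem row_psl {S : Type u} [Group S] [Finite S] [IsSimpleGroup S] (h : Cfsg.IsPSL S) : Row S := by
  have h0 := h
  obtain ⟨F, _, _, n, hn, hn2, ⟨e⟩⟩ := h
  by_cases hF : Odd (Fintype.card F)
  · -- the quotient of `SL`
    have hquot : Elem (Matrix.SpecialLinearGroup (Fin n) F) → Row S := fun h1 =>
      row_of_elem ((h1.quotient _).congr e.symm)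
    have h1F : 1 < Fintype.card F := Fintype.one_lt_card
    by_cases hq : 4 ∣ Fintype.card F - 1
    · by_cases hk : ∃ k, n = 2 ^ k
      · obtain ⟨k, rfl⟩ := hk
        apply hquot
        have hk0 : k ≠ 0 := by
          rintro rfl
          norm_num at hn
        obtain ⟨j, rfl⟩ := Nat.exists_eq_succ_of_ne_zero hk0
        have e2 : 2 ^ (j.succ) = 2 * 2 ^ j := by rw [Nat.succ_eq_add_one, pow_succ, mul_comm]
        rw [e2]
        exact elem_of_sq' fun P => Cfsg.Agent.S4627.result hF (2 ^ j) Nat.one_le_two_pow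
          (Or.inr ⟨hq, j, rfl⟩) P
      · push Not at hk
        have hn3 : 3 ≤ n := by
          rcases Nat.lt_or_ge n 3 with h3 | h3
          · have : n = 2 := by omega
            exact absurd this (by simpa using hk 1)
          · exact h3
        obtain ⟨p, hp⟩ := CharP.exists F
        have hpp : Fact p.Prime := ⟨CharP.char_is_prime F p⟩
        let π : Matrix.SpecialLinearGroup (Fin n) F →* S := e.symm.toMonoidHom.comp pr
        have hπ : Function.Surjective π := e.symm.surjective.comp pr_surjective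
        refine Sd.row_core (π := π) hq hn3 hk hπ ?_ ?_
        · intro x hx
          have h2 : pr x = 1 := by
            have h3 : e.symm (pr x) = 1 := hx
            simpa using h3
          exact (pr_eq_one_iff x).1 h2
        · intro α
          have key : ∀ γ : MulAut (Matrix.SpecialLinearGroup (Fin n) F),
              ((e.symm.trans α).trans e : MulAut (Matrix.ProjectiveSpecialLinearGroup (Fin n) F)) = lift γ →
              ∀ x, α (π x) = π (γ x) := by
            intro γ hγ x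
            have h3 := DFunLike.congr_fun hγ (pr x)
            rw [lift_pr] at h3
            have h4 : e (α (e.symm (pr x))) = pr (γ x) := h3
            show α (e.symm (pr x)) = e.symm (pr (γ x))
            rw [← h4, MulEquiv.symm_apply_apply]
          rcases Cfsg.Agent.ClassicalGeometry.AutPSL.Main.surj_three p hn3
            ((e.symm.trans α).trans e : MulAut (Matrix.ProjectiveSpecialLinearGroup (Fin n) F)) with
            ⟨A, σ, h2⟩ | ⟨A, σ, h2⟩
          · exact ⟨A, fld σ, _, std_fld σ, key _ h2⟩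
          · exact ⟨A, fld σ * itr, _, std_itr σ, key _ (by rw [h2, mul_assoc])⟩
    · apply hquot
      have hq' : 4 ∣ Fintype.card F + 1 := by
        obtain ⟨m, hm⟩ := hF
        omega
      rcases Nat.even_or_odd' n with ⟨m, rfl | rfl⟩
      · exact elem_of_sq' fun P => Cfsg.Agent.S4627.result hF m (by omega) (Or.inl hq') P
      · exact elem_of_sq' fun P => Cfsg.Agent.S4628.result hF hq' m (by omega) P
  · have := Cfsg.Agent.H491.Sd.charP_two_of_not_odd hF
    exact row_of_elem (Cfsg.Agent.H491.Sd.elem_of_char_two (Or.inl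
      ⟨F, inferInstance, inferInstance, this, n, hn, hn2, ⟨e⟩⟩))

end Psl

section Rgd

open CoxeterSystem Cfsg.Agent.ChevalleyStructure.CoxeterGeom Cfsg.Agent.Tits.Roots Cfsg.Agent.Tits.Core
  Cfsg.Agent.Nodes.Reps Cfsg.Agent.Nodes.BNOf Cfsg.Agent.Nodes.BNOf.RGD Cfsg.Agent.Nodes.Bruhat
  Cfsg.Agent.Nodes.OppDec Cfsg.Agent.KFacts.RgdAut Cfsg.Agent.KFacts.RgdDiag Cfsg.Agent.H641.Sd

/-- **`Row` for a group with a root group datum**, from the frames. -/
theorem row_of_rgd {I W : Type*} {Y : Type u} [Fintype I] [DecidableEq I] [Group W] [Group Y] {M : CoxeterMatrix I}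
    {cs : CoxeterSystem M W} {A : I → I → ℤ} {h : IsCartan M A} {p : ℕ} {T : Subgroup Y} {n : I → Y}
    {X : (I → ℤ) → Subgroup Y} (R : RGD cs h p T n X) [Finite W] [Finite Y] {S : Set (I → ℤ)}
    (hC : TorCond cs h p T X S) {𝓜 : Set (Subgroup Y)} (hM : H55.Sd.Frames T 𝓜)
    (hreal : H55.Sd.RealOnT (Sup X (Pos cs h)) T 𝓜) : Row Y := by
  have : Fintype Y := Fintype.ofFinite Y
  have hG := GG_top R hC.gen
  refine row_of_toral (torAut R hC.prime hC.odd hG hC.comm hC.cen) (Psi cs h X) (psi_stable R hG hC.fix)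
    hC.orb 𝓜 hM hreal (fun M hM σ hσ ψ hψ => ?_) (nr_of_sys (sys R hC.prime hC.odd hG hC.comm hC.fix hC.sep))
  exact H150.Toral.torConcl (sys R hC.prime hC.odd hG hC.comm hC.fix hC.sep) (reg R hG hC.fix hψ) hσ hM

theorem row_of_char_two {S : Type*} [Group S] [Finite S] [IsSimpleGroup S] (h : Cfsg.IsLieTypeChar 2 S) : Row S :=
  row_of_elem (H491.Sd.elem_of_char_two h)

/-- **`Row` for `E₆(q)`.** -/
theorem row_e6 {S : Type u} [Group S] [Finite S] [IsSimpleGroup S] (h : Cfsg.Lie.IsoChevE6 S) : Row S := by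
  obtain ⟨K, iF, iT, ⟨e⟩⟩ := h
  obtain ⟨p, hpK⟩ := CharP.exists K
  have hp : Fact p.Prime := ⟨CharP.char_is_prime K p⟩
  by_cases hp2 : p = 2
  · subst hp2
    have h1 : Cfsg.IsExceptionalChevChar 2 S := ⟨K, iF, iT, hpK, Or.inr (Or.inr (Or.inl ⟨e⟩))⟩
    exact Sd.row_of_char_two (Or.inr (Or.inr (Or.inr (Or.inr (Or.inr (Or.inr (Or.inl h1)))))))
  · obtain ⟨𝓜, h1, h2⟩ := H335.Sd.RowE6.frames_real_E6 K p hp2
    exact Sd.row_congr (Sd.row_of_rgd (E6.rgd6 K p) (E6.torCond K p hp2) h1 h2) e.symm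

open Cfsg.Lie in
/-- **`Row` for `²E₆(q)`.** -/
theorem row_2e6 {S : Type u} [Group S] [Finite S] [IsSimpleGroup S] (h : Cfsg.Lie.Iso2E6 S) : Row S := by
  obtain ⟨K, iF, iT, q, hq, hK, ⟨e⟩⟩ := h
  obtain ⟨p, hpK⟩ := CharP.exists K
  have hp : Fact p.Prime := ⟨CharP.char_is_prime K p⟩
  by_cases hp2 : p = 2
  · subst hp2
    have h1 : Cfsg.IsTwistedE6D4Char 2 S := ⟨K, iF, iT, hpK, q, hq, Or.inl ⟨hK, ⟨e⟩⟩⟩
    exact Sd.row_of_char_two (Or.inr (Or.inr (Or.inr (Or.inr (Or.inr (Or.inr (Or.inr (Or.inl h1))))))))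
  · obtain ⟨φ, hφ, hqq⟩ := Cfsg.Agent.ChevalleyStructure.TwE6Basic.exists_frob hq hK
    have hKo : Odd (Fintype.card K) := by
      obtain ⟨n, -, hn⟩ := FiniteField.card K p
      rw [hn]
      exact (hp.out.odd_of_ne_two hp2).pow
    have ho : Odd q := by
      rw [hK] at hKo
      exact (Nat.odd_pow_iff two_ne_zero).1 hKo
    obtain ⟨𝓜, h1, h2⟩ : ∃ 𝓜, H55.Sd.Frames (Nodes.RGDTwE6.T K q) 𝓜 ∧ H55.Sd.RealOnT
        (Sup (Nodes.RGDTwE6.X φ q) (Pos TwE6.cs Nodes.RGDTwE6.isCartan)) (Nodes.RGDTwE6.T K q) 𝓜 := by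
      refine H335.Sd.TwESix.frames_real_tw hφ hqq p CoxeterMatrix.F₄.toCoxeterSystem hq hK ho H491.Sd.FrTw.card_W ?_ _
      intro z hz
      have h1 : z ∈ Subgroup.center ↥(twistedE6 K q) := Subgroup.mem_center_iff.2 fun y => (hz y).symm
      rwa [H641.Sd.TwE6.center_eq hq hK, Subgroup.mem_bot] at h1
    exact Sd.row_congr (Sd.row_of_rgd (Nodes.RGDTwE6.rgd TwE6.cs hφ hqq p) (TwE6.torCond hφ hqq hq hK p hp2) h1 h2)
      e.symm

end Rgd

section Psu

open Matrix Cfsg.Agent.H150.Toral Cfsg.Agent.H55.Sd Cfsg.Agent.H835.Sd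
open Cfsg.Agent.LieClassical.GUOrder (frob frob_apply)

/-- the toral argument -/
theorem row_SS {n : ℕ} {K : Type u} [Field K] [Fintype K] {q : ℕ} (hF : Fintype.card K = q ^ 2) (hq : Odd q)
    (hn : 3 ≤ n) (hn2 : ∀ k : ℕ, n ≠ 2 ^ k) : Row (SS n (frob hF)) := by
  have h : Frob (frob hF) q := frobOf hF hq
  obtain ⟨𝓜, hf, hr⟩ := Cfsg.Agent.H158.Sd.real_psu hF hq hn (hn2 2) (frob hF) (frob_apply hF) (πS n (frob hF))
    (πS_surj n (frob hF)) (ker_πS h hn)
  obtain ⟨p, hp⟩ := torAut_SS h hn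
  have : Fintype (SS n (frob hF)) := Fintype.ofFinite _
  obtain ⟨M, hM⟩ := Blocks.ExistsModular.exists_isPModular Nat.prime_two
  refine Sd.row_of_toral_set hp _ psiStable 𝓜 hf hr ?_ ?_
  · intro σ hσ
    rw [normalizer_T (quoS h hn).sys] at hσ ⊢
    refine ⟨count_odd h hn hn2 hσ, ?_⟩
    rintro χ h1 ⟨ψ, hψ, h2⟩
    obtain ⟨χ', -, -, hu, hodd, -, -⟩ := torConcl (quoS h hn).sys hψ hσ hM
    rw [hu χ h1 h2]
    exact hodd
  · rw [normalizer_T (quoS h hn).sys]
    exact nr_of_sys (quoS h hn).sys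

/-- **The row `PSU`.** -/
theorem row_psu : ∀ (S : Type v) [Group S] [Finite S] [IsSimpleGroup S], Cfsg.IsPSU S → Row S := by
  intro S _ _ _ h
  obtain ⟨F, _, _, n, q, hF, hn, hne, ⟨e⟩⟩ := h
  have hfin : Finite (Cfsg.PSU n F q) := Finite.of_equiv S e.toEquiv
  by_cases hodd : Odd q
  · by_cases hn2 : ∃ k : ℕ, n = 2 ^ k
    · have h1 : Elem (Cfsg.PSU n F q) := Cfsg.Agent.H158.Sd.elem_PSU hn hF hodd (Or.inr hn2)
      exact Sd.row_congr (row_of_elem h1) e.symm
    · obtain ⟨e1⟩ := psu_equiv hF hodd hn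
      exact Sd.row_congr (Sd.row_SS hF hodd hn fun k hk => hn2 ⟨k, hk⟩) (e1.trans e.symm)
  · have : CharP F 2 := Cfsg.Agent.H491.Sd.charP_two_of_not_odd (by
      rw [hF, sq]
      intro h1
      exact hodd (Nat.Odd.of_mul_left h1))
    exact row_of_elem (Cfsg.Agent.H491.Sd.elem_of_char_two (Or.inr (Or.inr (Or.inl
      ⟨F, inferInstance, inferInstance, this, n, q, hF, hn, hne, ⟨e⟩⟩))))

end Psu

open Cfsg.Agent.H829.Sd.Tits Cfsg.Agent.H29.TitsMat Cfsg.Agent.H29.TitsHom Cfsg.Agent.H29.TitsExt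
  Cfsg.Agent.Omega.TitsIso.TitsSideRel Cfsg.Agent.Omega.TitsIso.TitsSide in
/-- **The row of the Tits group.** -/
theorem row_tits {S : Type*} [Group S] [Finite S] (h : Cfsg.Lie.IsoTits S) : Row S := by
  obtain ⟨K, hK, ⟨e⟩⟩ := Omega.TwoF.TitsAut.exists_equiv h
  subst hK
  have : Finite T := Finite.of_equiv S e.toEquiv
  refine row_congr (S := T) ?_ e.symm
  rintro Q A c f - -
  obtain ⟨σ, hσ⟩ := exists_hom
  refine ⟨(rep σ).character, ⟨27, rep σ, irreducible_rep hσ, rfl⟩, ?_, fun a _ t => ?_, fun h1 => ?_⟩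
  · rw [charDegree_of (n := 27)]
    · decide
    · rw [character_rep, map_one, Units.val_one, Matrix.trace_one, Fintype.card_fin]
  · obtain ⟨g, rfl⟩ := exists_conj a
    rw [character_rep, character_rep]
    exact invariant hσ g t
  · obtain ⟨τ, h2, h3⟩ := exists_two_neg_I
    have h4 := h1 τ h2 tt
    rw [trace_tt hσ, h3] at h4
    exact I_ne_neg_I h4.symm

theorem row_of_known {S : Type u} [Group S] [Finite S] [IsSimpleGroup S] (h : IsKnownSimple' S) :
    Row S := by
  rcases h with h | h | h | h | h | h | h | h | h | h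
  · exact row_of_elem (elem_prime h)
  · exact row_of_elem (elem_alt h)
  · exact row_psl h
  · exact row_of_elem (elem_psp h)
  · exact row_psu S h
  · exact row_of_elem (H900.Sd.elem_omega_odd h)
  · exact row_of_elem (H900.Sd.elem_omega_plus h)
  · exact row_of_elem (H900.Sd.elem_omega_minus h)
  · rcases h with h | h | h | h | h | h | h | h | h | h | h
    · exact row_of_elem (H491.Sd.elem_g2 h)
    · exact row_of_elem (H775.Sd.Rows.elem_f4 h)
    · exact row_e6 h
    · exact row_of_elem (H775.Sd.Rows.elem_e7 h)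
    · exact row_of_elem (H775.Sd.Rows.elem_e8 h)
    · exact row_2e6 h
    · exact row_of_elem (H491.Sd.elem_3d4 h)
    · exact row_of_elem (elem_suzuki h)
    · exact row_of_elem (H491.Sd.elem_ree h)
    · exact row_of_elem (elem_2f4 h)
    · exact row_tits h
  · rcases h with h | h | h | h | h | h | h | h | h | h | h | h | h | h | h | h | h | h | h | h | h | h | h | h | h | h
    · exact row_of_elem (H567.Sd.elem_m11 h)
    · exact row_of_elem (H24.Sd.elem_m12 h)
    · exact row_of_elem (H567.Sd.elem_m22 h)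
    · exact row_of_elem (H567.Sd.elem_m23 h)
    · exact row_of_elem (H567.Sd.elem_m24 h)
    · exact row_of_elem (H567.Sd.elem_j1 h)
    · exact row_of_elem (H24.Sd.elem_j2 h)
    · exact row_of_elem (H24.Sd.elem_j3 h)
    · exact row_of_elem (H443.Sd.J4.elem_j4_of H567.Sd.elem_M24 h)
    · exact row_of_elem (H519.Sd.elem_co1 h)
    · exact row_of_elem (H519.Sd.elem_co2 h)
    · exact row_of_elem (H519.Sd.elem_co3 h)
    · exact row_of_elem (H809.Sd.McL.elem_mcl h)
    · exact row_of_elem (H809.Sd.HS.elem_hs h)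
    · exact row_of_elem (H474.Sd.elem_suz h)
    · exact row_of_elem (H474.Sd.elem_he h)
    · exact row_of_elem (H96.Sd.elem_ru h)
    · exact row_of_elem (H474.Sd.elem_on h)
    · exact row_of_elem (H96.Sd.elem_ly h)
    · exact row_of_elem (H559.Sd.elem_fi22 h)
    · exact row_of_elem (H559.Sd.elem_fi23 h)
    · exact row_of_elem (H559.Sd.elem_fi24 h)
    · exact row_of_elem (H443.Sd.HN.elem_hn h)
    · exact row_of_elem (H443.Sd.Th.elem_th h)
    · exact row_of_elem (H352.Sd.elem_b H519.Sd.elem_Co2 h)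
    · exact row_of_elem (H352.Sd.elem_m H519.Sd.elem_Co1 h)

end Cfsg.Agent.ODD.Sd
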